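import Cfsg.Agent.TwoF.DC.TFG.G2.Loc
import Cfsg.Agent.TwoF.DC.Close
import Cfsg.Agent.TwoF.SpB.Core
import Cfsg.Agent.TwoF.Gen.BWt
import Cfsg.Agent.H452.RG.ReeOuter
import Cfsg.Agent.S1158
import Cfsg.Agent.S1159
import Cfsg.Agent.S2113
import Cfsg.Agent.S2127
import Cfsg.Agent.S2458

/-!
# TwoF, the small Ree groups in characteristic three (helper78)
-/

set_option autoImplicit false
set_option linter.unusedSectionVars false

namespace Cfsg.Agent.TwoF.DC.TF.G2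

open Cfsg Cfsg.Lie Cfsg.Agent.TwoF.Gen Subgroup Cfsg.Agent.LieRecognition Cfsg.Agent.LieRecognition.ReeAbs
  Cfsg.Agent.LieRecognition.ReeSylowThree Cfsg.Agent.LieRecognition.ReeSplit Cfsg.Agent.H452.RG.ReeD

/-- commuting elements of orders two and three in the normaliser of a cyclic group -/
theorem exists_six {G : Type*} [Group G] [Finite G] {x : G} (h6 : 6 ∣ Nat.card (normalizer (zpowers x : Set G)))
    (hc : ∀ g : G, orderOf g = 2 ∨ orderOf g = 3 → g * x ≠ x * g) :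
    ∃ y j : G, orderOf y = 3 ∧ orderOf j = 2 ∧ j * y = y * j ∧ y ∈ normalizer (zpowers x : Set G) := by
  obtain ⟨j, hj⟩ := exists_prime_orderOf_dvd_card' 2 ((by norm_num : 2 ∣ 6).trans h6)
  obtain ⟨y, hy⟩ := exists_prime_orderOf_dvd_card' 3 ((by norm_num : 3 ∣ 6).trans h6)
  let ψ := (zpowers x).normalizerMonoidHom
  have h1 : ∀ g, orderOf g = 2 ∨ orderOf g = 3 → ψ g ≠ 1 := fun g hg e => by
    have h2 : g ∈ ψ.ker := e
    rw [normalizerMonoidHom_ker, mem_subgroupOf, mem_centralizer_iff] at h2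
    exact hc g (by rwa [Subgroup.orderOf_coe]) (h2 x (mem_zpowers x)).symm
  have h2 : orderOf (ψ j) = 2 := orderOf_eq_prime (by rw [← map_pow, ← hj, pow_orderOf_eq_one, map_one]) (h1 j (Or.inl hj))
  have h3 : orderOf (ψ y) = 3 := orderOf_eq_prime (by rw [← map_pow, ← hy, pow_orderOf_eq_one, map_one]) (h1 y (Or.inr hy))
  have h4 : Commute (ψ j) (ψ y) := (IsCyclic.mulAutMulEquiv (zpowers x)).injective (by rw [map_mul, map_mul, mul_comm])
  have h5 : 6 ∣ orderOf (j * y) := by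
    have h7 := orderOf_map_dvd ψ (j * y)
    rwa [map_mul, h4.orderOf_mul_eq_mul_orderOf_of_coprime (by rw [h2, h3]; norm_num), h2, h3] at h7
  refine ⟨((j * y) ^ (orderOf (j * y) / 3) : normalizer (zpowers x : Set G)),
    ((j * y) ^ (orderOf (j * y) / 2) : normalizer (zpowers x : Set G)), ?_, ?_, ?_, Subtype.prop _⟩
  · rw [Subgroup.orderOf_coe, orderOf_pow_orderOf_div (orderOf_pos _).ne' ((by norm_num : 3 ∣ 6).trans h5)]
  · rw [Subgroup.orderOf_coe, orderOf_pow_orderOf_div (orderOf_pos _).ne' ((by norm_num : 2 ∣ 6).trans h5)]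
  · rw [← coe_mul, ← coe_mul, pow_mul_comm]

theorem arith {m r : ℕ} (hr : r.Prime) (h1 : ∀ d, r ∣ 3 ^ d - 1 ↔ 6 * (2 * m + 1) ∣ d) :
    ¬ r ∣ 3 ^ (2 * m + 1) - 1 ∧ ¬ r ∣ 3 ^ (2 * m + 1) + 1 ∧
      (r ∣ 3 ^ (2 * m + 1) - 3 ^ (m + 1) + 1 ∨ r ∣ 3 ^ (2 * m + 1) + 3 ^ (m + 1) + 1) := by
  have h2 : ∀ c, 0 < c → c < 6 → ¬ r ∣ (3 ^ (2 * m + 1)) ^ c - 1 := fun c c0 c6 e => by
    rw [← pow_mul, h1] at e
    have := Nat.le_of_dvd (by positivity) e
    nlinarith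
  have h3 : r ∣ (3 ^ (2 * m + 1)) ^ 6 - 1 := by rw [← pow_mul, h1, mul_comm]
  have h4 : 3 ^ (m + 1) * 3 ^ (m + 1) = 3 * 3 ^ (2 * m + 1) := by ring
  have h5 : 3 ^ (m + 1) ≤ 3 ^ (2 * m + 1) := Nat.pow_le_pow_right (by norm_num) (by omega)
  have h6 : 1 ≤ 3 ^ (2 * m + 1) := Nat.one_le_pow _ _ (by norm_num)
  generalize 3 ^ (2 * m + 1) = q at *
  generalize 3 ^ (m + 1) = t at *
  have h7 : ¬ r ∣ q + 1 := fun e => h2 2 (by norm_num) (by norm_num) (by
    have : q ^ 2 - 1 = (q + 1) * (q - 1) := by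
      zify [h6, Nat.one_le_pow 2 q h6]
      ring
    exact this ▸ e.mul_right _)
  refine ⟨by simpa using h2 1 one_pos (by norm_num), h7, ?_⟩
  have h8 : q ^ 6 - 1 = (q ^ 3 - 1) * ((q + 1) * ((q - t + 1) * (q + t + 1))) := by
    zify [h5, Nat.one_le_pow 6 q h6, Nat.one_le_pow 3 q h6] at h4 ⊢
    linear_combination ((q : ℤ) ^ 3 - 1) * (q + 1) * h4
  rw [h8, hr.dvd_mul, hr.dvd_mul, hr.dvd_mul] at h3
  exact (h3.resolve_left (h2 3 (by norm_num) (by norm_num))).resolve_left h7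

section Model

variable {K : Type} [Field K] [Fintype K] {m : ℕ}

theorem exists_big (hm : 1 ≤ m) (hK : Fintype.card K = 3 ^ (2 * m + 1)) :
    ∃ (r : ℕ) (x y j : ↥(twistedG2 K (3 ^ m))), r.Prime ∧ (∀ d, r ∣ 3 ^ d - 1 ↔ 6 * (2 * m + 1) ∣ d) ∧ ¬ r ∣ 3 ∧
      orderOf x = r ∧ orderOf y = 3 ∧ orderOf j = 2 ∧ j * y = y * j ∧
      y ∈ normalizer (zpowers x : Set ↥(twistedG2 K (3 ^ m))) ∧ y * x ≠ x * y := by
  obtain ⟨U, h, n, D⟩ := ChevalleyStructure.Ree.Data.exists_data (K := K) hK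
  have := ReeSylowThree.finite D
  obtain ⟨r, hr, r1, -, r2⟩ := Lib.Zsigmondy.exists_primitive (a := 3) (n := 6 * (2 * m + 1)) (by norm_num) (by omega)
    (by omega) (by omega)
  have := Fact.mk hr
  obtain ⟨a1, a2, a3⟩ := arith hr r1
  have r3 : ¬ r ∣ 2 := fun e => by
    have := Nat.le_of_dvd one_pos ((r1 1).1 e)
    omega
  have e1 : 3 ^ (m + 1) ≤ 3 ^ (2 * m + 1) := Nat.pow_le_pow_right (by norm_num) (by omega)
  have e2 : 3 ^ (2 * m + 1) % 6 = 3 := by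
    have := three_pow_odd_mod m
    have : 3 ∣ 3 ^ (2 * m + 1) := dvd_pow_self 3 (by omega)
    omega
  have e3 : 3 ^ (m + 1) % 6 = 3 := by
    have := Nat.odd_iff.1 (odd_three_pow (m + 1))
    have : 3 ∣ 3 ^ (m + 1) := dvd_pow_self 3 (by omega)
    omega
  have key : ∀ g : ↥(twistedG2 K (3 ^ m)), r ∣ orderOf g → ¬ 2 ∣ orderOf g ∧ ¬ 3 ∣ orderOf g := fun g hg => by
    rcases (S1159.result hm hK _).1 ⟨g, rfl⟩ with e | e | e | e | e | e
    · exact (((hr.dvd_mul (m := 2) (n := 3)).1 (hg.trans e)).elim r3 r2).elim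
    · exact (r2 (hr.dvd_of_dvd_pow (n := 2) (hg.trans e))).elim
    · exact (a1 (hg.trans e)).elim
    · exact (a2 ((hg.trans e).trans (Dvd.intro 2 (by omega)))).elim
    · exact ⟨fun e' => by have := e'.trans e; omega, fun e' => by have := e'.trans e; omega⟩
    · exact ⟨fun e' => by have := e'.trans e; omega, fun e' => by have := e'.trans e; omega⟩
  obtain ⟨k, hk, A, -, b2, b3, b4⟩ : ∃ k, r ∣ k ∧ ∃ A : Subgroup ↥(twistedG2 K (3 ^ m)), IsCyclic A ∧ Nat.card A = k ∧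
      Nat.card (normalizer (A : Set ↥(twistedG2 K (3 ^ m)))) = 6 * k ∧ ∀ A₀ ≤ A, A₀ ≠ ⊥ →
        normalizer (A₀ : Set ↥(twistedG2 K (3 ^ m))) = normalizer (A : Set ↥(twistedG2 K (3 ^ m))) := by
    rcases a3 with e | e
    · exact ⟨_, e, S1158.result hm hK (_, _) (Or.inr (Or.inr (Or.inl rfl)))⟩
    · exact ⟨_, e, S1158.result hm hK (_, _) (Or.inr (Or.inr (Or.inr rfl)))⟩
  obtain ⟨⟨x, hxA⟩, hx⟩ := exists_prime_orderOf_dvd_card' r (b2 ▸ hk)
  rw [Subgroup.orderOf_mk] at hx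
  have hc : ∀ g, orderOf g = 2 ∨ orderOf g = 3 → g * x ≠ x * g := fun g hg e => by
    have h1 : (orderOf g).Coprime (orderOf x) := by
      rw [hx, Nat.coprime_comm, hr.coprime_iff_not_dvd]
      rcases hg with hg | hg <;> rwa [hg]
    have h2 := Commute.orderOf_mul_eq_mul_orderOf_of_coprime e h1
    obtain ⟨h3, h4⟩ := key (g * x) (h2 ▸ hx ▸ dvd_mul_left _ _)
    rw [h2] at h3 h4
    rcases hg with hg | hg
    · exact h3 (by rw [hg]; exact dvd_mul_right _ _)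
    · exact h4 (by rw [hg]; exact dvd_mul_right _ _)
  obtain ⟨y, j, c1, c2, c3, c4⟩ := exists_six (x := x) (by
    rw [b4 _ ((zpowers_le).2 hxA) fun e => ?_, b3]
    · exact dvd_mul_right _ _
    · rw [zpowers_eq_bot.1 e, orderOf_one] at hx
      exact hr.one_lt.ne hx) hc
  exact ⟨r, x, y, j, hr, r1, r2, hx, c1, c2, c3, c4, hc y (Or.inr c1)⟩

variable {V : Type*} [AddCommGroup V] [Module (ZMod 3) V] [Finite V]

/-- the lower bounds for the codimensions -/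
theorem bounds (hm : 1 ≤ m) (hK : Fintype.card K = 3 ^ (2 * m + 1)) {U : K → K → K → ↥(twistedG2 K (3 ^ m))}
    {h : Kˣ → ↥(twistedG2 K (3 ^ m))} {n : ↥(twistedG2 K (3 ^ m))} (D : Data m U h n)
    {ρ : Representation (ZMod 3) ↥(twistedG2 K (3 ^ m)) V} (hf : Function.Injective ρ) :
    (∀ g l, l.Prime → 5 ≤ l → l ∣ orderOf g → 3 * (2 * m + 1) ≤ cod ρ (zpowers g)) ∧
      ∀ w ∈ wSub D, w ∉ zSub D → 4 * (2 * m + 1) ≤ cod ρ (zpowers w) := by
  have := ReeSylowThree.finite D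
  obtain ⟨r, x, y, j, hr, r1, r2, hx, hy, hj, h1, h2, h3⟩ := exists_big hm hK
  have := Fact.mk hr
  have hx1 : x ≠ 1 := fun e => by
    rw [e, orderOf_one] at hx
    exact hr.one_lt.ne hx
  have h4 : 6 * (2 * m + 1) ≤ cod ρ (zpowers x) := le_cod_of_order (s := r) hf (by rwa [Nat.card_zmod])
    (fun d d1 d2 d3 => by
      rw [Nat.card_zmod] at d3
      exact absurd (Nat.le_of_dvd d1 ((r1 d).1 ((Nat.modEq_iff_dvd' (Nat.one_le_pow _ _ (by norm_num))).1 d3.symm)))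
        d2.not_ge) (elemAb_isPGroup (elemAb_zpowers (hx ▸ pow_orderOf_eq_one x))) fun e => hx1 (zpowers_eq_bot.1 e)
  refine ⟨fun g l hl h5 h6 => ?_, fun w hw hz => cod_w D hK hy hj h1 ?_ hw hz⟩
  · have h7 := orderOf_pow_orderOf_div (orderOf_pos g).ne' h6
    obtain ⟨u, v, e⟩ := S2458.result m hm hK (g ^ (orderOf g / l)) (by omega) (fun e => by
      have := (Nat.prime_dvd_prime_iff_eq Nat.prime_three hl).1 (h7 ▸ e)
      omega) x hx1
    have h8 := cod_zpowers_mul_le (ρ := ρ) (u * g ^ (orderOf g / l) * u⁻¹) (v * g ^ (orderOf g / l) * v⁻¹)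
    rw [← e, cod_zpowers_conj, cod_zpowers_conj] at h8
    have h9 : cod ρ (zpowers (g ^ (orderOf g / l))) ≤ cod ρ (zpowers g) :=
      cod_mono ((zpowers_le).2 (pow_mem (mem_zpowers g) _))
    omega
  · have h5 := frobenius_bound_elt (ρ := ρ) hr hx (fun e => r2 (by
      rw [(Nat.prime_dvd_prime_iff_eq Nat.prime_three hr).1 ((CharP.cast_eq_zero_iff (ZMod 3) 3 r).1 e)])) hy h2 h3
    omega

theorem fld_one : S2127.fld (1 : K ≃+* K) (3 ^ m) = 1 := by
  ext x : 1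
  apply Subtype.ext
  apply Units.ext
  rw [H71.FldAut.coe_fldG]
  ext i j
  rfl

/-- an offender lies in the simple group -/
theorem le_range (hm : 1 ≤ m) (hK : Fintype.card K = 3 ^ (2 * m + 1)) {Y : Type*} [Group Y] [Finite Y]
    {ρ : Representation (ZMod 3) Y V} (hf : Function.Injective ρ) {ι : ↥(twistedG2 K (3 ^ m)) →* Y}
    (hι : Function.Injective ι) {φ : Y →* MulAut ↥(twistedG2 K (3 ^ m))} (h1 : ∀ y s, ι (φ y s) = y * ι s * y⁻¹)
    (h2 : ∀ y g, φ y = MulAut.conj g → y ∈ ι.range) {A : Subgroup Y} (hA : Off 3 ρ A)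
    (h3 : ι.range.relIndex A ∣ 2 * m + 1) : A ≤ ι.range := by
  obtain ⟨θ, c⟩ := ChevalleyStructure.Ree.Normal.exists_ctx hK
  have D := ChevalleyStructure.Ree.Data.data c
  have F := H71.FldAut.reeFld c
  have := ReeSylowThree.finite D
  obtain ⟨b1, b2⟩ := bounds hm hK D (ρ := ρ.comp ι) (hf.comp hι)
  have hc : ∀ s, cod (ρ.comp ι : Representation (ZMod 3) _ V) (zpowers s) = cod ρ (zpowers (ι s)) := fun s => by
    rw [cod_comp, MonoidHom.map_zpowers]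
  by_contra hn
  obtain ⟨a, ha, ha1⟩ := SetLike.not_le_iff_exists.1 hn
  obtain ⟨r, -, r1, r2⟩ := hA.exists_card
  -- the outer element
  have c1 : 3 * (2 * m + 1) ≤ 2 * cod ρ A := by
    obtain ⟨g, l, hl, l5, hg⟩ := H452.RG.outer_three hm hK (φ a) (by rw [← map_pow, hA.1.2 a ha, map_one])
      fun ⟨g, e⟩ => ha1 (h2 a g e)
    have h4 := b1 _ l hl l5 hg
    have h5 := cod_zpowers_commutator_le (ρ := ρ) a (ι g)
    rw [hc, map_mul, map_inv, h1, show (ι g)⁻¹ * (a * ι g * a⁻¹) = (ι g)⁻¹ * (a * ι g * a⁻¹ * (ι g)⁻¹) * (ι g)⁻¹⁻¹ by group,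
      cod_zpowers_conj] at h4
    have h6 : cod ρ (zpowers a) ≤ cod ρ A := cod_mono ((zpowers_le).2 ha)
    omega
  -- the inner part
  obtain ⟨g, hg⟩ := exists_conj_le D hK (A := A.comap ι) fun s hs => hι (by rw [map_pow, map_one]; exact hA.1.2 _ hs)
  obtain ⟨A₀, hA₀⟩ : ∃ A₀, A₀ = (A.comap ι).map (MulAut.conj g).toMonoidHom := ⟨_, rfl⟩
  have c2 : A₀ ≤ wSub D := by
    rw [hA₀]
    rintro _ ⟨s, hs, rfl⟩
    exact hg s hs
  have c3 : Nat.card A₀ * ι.range.relIndex A = 3 ^ r := by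
    rw [hA₀, card_map_conj, ← card_map_of_injective hι, map_comap_eq, ← inf_relIndex_right, ← r1,
      ← relIndex_bot_left, ← relIndex_bot_left, relIndex_mul_relIndex _ _ _ bot_le inf_le_right]
  have c4 : Nat.card ↥(A₀ ⊓ zSub D) ^ 2 ≤ 3 ^ (2 * m + 1) := by
    obtain ⟨g₀, τ, e⟩ := H71.FldAut.ree_aut hm hK (MulAut.conj g * φ a * (MulAut.conj g)⁻¹)
    rw [← hK]
    refine card_fix_sq D F (g := g₀) (τ := τ) (fun e' => ha1 (h2 a (g⁻¹ * g₀ * g) ?_)) inf_le_right fun s hs => ?_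
    · rw [e', fld_one, mul_one] at e
      rw [map_mul, map_mul, map_inv, ← e]
      group
    · obtain ⟨s, hs', rfl⟩ := hA₀.le hs.1
      rw [← MulAut.conj_apply, ← MulAut.mul_apply, ← e]
      show MulAut.conj g (φ a ((MulAut.conj g).symm (MulAut.conj g s))) = MulAut.conj g s
      rw [MulEquiv.symm_apply_apply]
      exact congrArg _ (hι (by rw [h1, elemAb_comm hA.1 ha hs', mul_inv_cancel_right]))
  obtain ⟨e, -, he⟩ := (Nat.dvd_prime_pow Nat.prime_three).1 (Dvd.intro_left _ c3)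
  obtain ⟨i, -, hi⟩ := (Nat.dvd_prime_pow Nat.prime_three).1 (Dvd.intro _ c3)
  obtain ⟨d, -, hd⟩ := (Nat.dvd_prime_pow Nat.prime_three).1 (hi ▸ card_dvd_of_le (inf_le_left : A₀ ⊓ zSub D ≤ A₀))
  rw [hi, he, ← pow_add, Nat.pow_right_inj (by norm_num)] at c3
  rw [hd, ← pow_mul, Nat.pow_le_pow_iff_right (by norm_num)] at c4
  have c5 := Nat.le_of_dvd (by omega) (he ▸ h3)
  have c6 := four_mul_lt e
  by_cases hZ : A₀ ≤ zSub D
  · rw [inf_eq_left.2 hZ, hi, Nat.pow_right_inj (by norm_num)] at hd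
    omega
  · obtain ⟨w, hw, hw1⟩ := SetLike.not_le_iff_exists.1 hZ
    have c7 := b2 w (c2 hw) hw1
    obtain ⟨s, hs, rfl⟩ := hA₀.le hw
    have c8 : cod ρ (zpowers (ι s)) ≤ cod ρ A := cod_mono ((zpowers_le).2 hs)
    rw [show (MulAut.conj g).toMonoidHom s = g * s * g⁻¹ from rfl, cod_zpowers_conj, hc] at c7
    have c9 := (card_mul_card_le A₀ (zSub D)).trans
      (Nat.mul_le_mul_right _ (card_le_of_le (sup_le c2 (zSub_le_wSub D))))
    rw [card_wSub D, card_zSub D, hK, hi, hd, ← pow_mul, ← pow_add, ← pow_add,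
      Nat.pow_le_pow_iff_right (by norm_num)] at c9
    omega

theorem row (hm : 1 ≤ m) (hK : Fintype.card K = 3 ^ (2 * m + 1)) : Row 3 ↥(twistedG2 K (3 ^ m)) := by
  have key : ∀ (Y : Type) [Group Y] [Finite Y] (V : Type) [AddCommGroup V] [Module (ZMod 3) V] [Finite V]
      (L : Subgroup Y) (ρ : Representation (ZMod 3) Y V) (π : L →* ↥(twistedG2 K (3 ^ m)))
      (φ : Y →* MulAut ↥(twistedG2 K (3 ^ m))), Sit 3 L ρ π φ → ∀ A, Off 3 ρ A →
        A ≤ L ∧ ∃ B, Off 3 ρ B ∧ Cub ρ B := by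
    intro Y _ _ V _ _ _ L ρ π φ H A hA
    have hZ : center L = ⊥ :=
      card_eq_one.1 (Nat.dvd_one.1 (H.toFrm.card_center_dvd' H.toStp.perfect (S2113.result hm hK)))
    have hπ : Function.Bijective π := ⟨(MonoidHom.ker_eq_bot_iff π).1 (H.ker_π.trans hZ), H.surj⟩
    let e : ↥(twistedG2 K (3 ^ m)) ≃* L := (MulEquiv.ofBijective π hπ).symm
    let ι : ↥(twistedG2 K (3 ^ m)) →* Y := L.subtype.comp e.toMonoidHom
    have hι : Function.Injective ι := L.subtype_injective.comp e.injective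
    have hr : ι.range = L := by
      rw [MonoidHom.range_comp, MonoidHom.range_eq_top.2 e.surjective, ← MonoidHom.range_eq_map, range_subtype]
    have h0 : ∀ x : L, ι (π x) = x := fun x => congrArg Subtype.val ((MulEquiv.ofBijective π hπ).symm_apply_apply x)
    have h1 : A ≤ ι.range := le_range hm hK H.faithful hι (φ := φ) (fun y s => by
      obtain ⟨x, rfl⟩ := H.surj s
      rw [H.conj y x ⟨_, H.normal.conj_mem _ x.2 y⟩ rfl, h0, h0])
      (fun y g e => hr ▸ H.toFrm.mem_inn_iff.1 ⟨g, e.symm⟩) hA (by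
        rw [hr, ← S2127.result hm hK]
        exact H.toFrm.relIndex_dvd A)
    obtain ⟨U, h, n, D⟩ := ChevalleyStructure.Ree.Data.exists_data (K := K) hK
    have := ReeSylowThree.finite D
    obtain ⟨B, b1, b2⟩ := core D hm hK (bounds hm hK D (ρ := ρ.comp ι) (H.faithful.comp hι)).2
      (SpB.off_comap ι hι h1 hA)
    exact ⟨hr ▸ h1, _, SpB.off_map ι hι b1, (cub_comp _ _).1 b2⟩
  exact ⟨row88_of_sit fun Y _ _ V _ _ _ L ρ π φ H A hA => (key Y V L ρ π φ H A hA).2,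
    row89_of_sit fun Y _ _ V _ _ _ L ρ π φ H A hA _ _ _ h => absurd (key Y V L ρ π φ H A hA).1 h⟩

end Model

end Cfsg.Agent.TwoF.DC.TF.G2

namespace Cfsg.Agent.TwoF.DC.TF

/-- **the small Ree groups in characteristic three** -/
theorem ree : TBox fun p S _ => p = 3 ∧ Lie.IsoRee S := by
  rintro p _ S _ _ _ ⟨rfl, K, _, _, m, hm, hK, ⟨e⟩⟩
  exact (G2.row hm hK).of_equiv e

end Cfsg.Agent.TwoF.DC.TF
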